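import Mathlib
import Cfsg.Agent.H753.CentStrong
import Cfsg.Agent.S5092
import Cfsg.Agent.S5111
import Cfsg.Agent.S5192
import Cfsg.Agent.H604.Small.DFourGrp
set_option linter.all false

/-!
# Central involutions outside the focal subgroup (helper604, S4542 package F4)

`F` saturated over a 2-group `S` with `S' ≤ {1, z}`, whose centre is `{1, z, c, c z}`, `c ^ 2 = 1`, `z` fixed by every
automorphism of `S`: then `c ∉ foc(F)`.
-/

set_option autoImplicit false

namespace Cfsg.Agent.H604.Small.FocAvoid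

open Cfsg Cfsg.FusionSystem Cfsg.Agent.H752

variable {Ω : Type*} [Group Ω] {S : Subgroup Ω} {F : FusionSystem S}

theorem normalizerIn_eq {w : Ω} (hwc : ∀ x ∈ S, x * w = w * x) :
    normalizerIn S (Subgroup.zpowers w) = S := by
  refine inf_eq_left.2 fun x hx => ?_
  rw [Subgroup.mem_normalizer_iff]
  have h1 : Commute x w := hwc x hx
  intro y
  constructor
  · rintro ⟨k, rfl⟩
    refine ⟨k, ?_⟩
    show w ^ k = x * w ^ k * x⁻¹
    rw [(h1.zpow_right k).eq, mul_inv_cancel_right]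
  · rintro ⟨k, hk⟩
    refine ⟨k, ?_⟩
    have h2 : w ^ k = x * y * x⁻¹ := hk
    show w ^ k = y
    have h3 : y = x⁻¹ * w ^ k * x := by rw [h2]; group
    rw [h3, mul_assoc, ← (h1.zpow_right k).eq, ← mul_assoc, inv_mul_cancel, one_mul]

theorem fullyNormalized_of_central [Finite S] (F : FusionSystem S) {w : Ω} (hw : w ∈ S)
    (hwc : ∀ x ∈ S, x * w = w * x) : F.IsFullyNormalized (Subgroup.zpowers w) := by
  refine ⟨Subgroup.zpowers_le.2 hw, fun Q _ => ?_⟩
  rw [normalizerIn_eq hwc]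
  exact Nat.card_le_card_of_injective _ (Subgroup.inclusion_injective (inf_le_left : normalizerIn S Q ≤ S))

theorem receptive_of_central [Finite S] (hS : IsPGroup 2 S) (hF : F.IsSaturated 2) {w : Ω} (hw : w ∈ S)
    (hwc : ∀ x ∈ S, x * w = w * x) : F.IsReceptive (Subgroup.zpowers w) := by
  have : Fact (Nat.Prime 2) := ⟨Nat.prime_two⟩
  exact ((S5111.result 2 hS F).1 hF).2 _ (fullyNormalized_of_central F hw hwc)

/-- a fully normalized conjugate of a central involution is central -/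
theorem central_of_conj [Finite S] {i j : Ω} (hi : i ∈ S) (hic : ∀ x ∈ S, x * i = i * x)
    (hi2 : i * i = 1) (hij : F.IsConjElt i j) (hj : F.IsFullyNormalized (Subgroup.zpowers j)) :
    j ∈ S ∧ ∀ x ∈ S, x * j = j * x := by
  obtain ⟨φ, hφ, hφj⟩ := hij
  have hjS : j ∈ S := by rw [← hφj]; exact (F.le_of_mem hφ).2 _
  have hj2 : j * j = 1 := by
    rw [← hφj, ← map_mul]
    have h1 : (⟨i, Subgroup.mem_zpowers i⟩ : Subgroup.zpowers i) * ⟨i, Subgroup.mem_zpowers i⟩ = 1 :=
      Subtype.ext hi2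
    rw [h1, map_one]
  have hr : φ.range = Subgroup.zpowers j := by
    ext y
    constructor
    · rintro ⟨⟨_, k, rfl⟩, rfl⟩
      refine ⟨k, ?_⟩
      have h1 : (⟨i ^ k, ⟨k, rfl⟩⟩ : Subgroup.zpowers i) = ⟨i, Subgroup.mem_zpowers i⟩ ^ k :=
        Subtype.ext (by simp)
      show j ^ k = _
      rw [h1, map_zpow, hφj]
    · rintro ⟨k, rfl⟩
      refine ⟨⟨i, Subgroup.mem_zpowers i⟩ ^ k, ?_⟩
      rw [map_zpow, hφj]
  obtain ⟨ψ, hψ, h1⟩ := F.inv_mem hφ
  have hconj : F.IsConj (Subgroup.zpowers j) (Subgroup.zpowers i) := by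
    rw [← hr]
    refine ⟨ψ, hψ, ?_⟩
    ext y
    constructor
    · rintro ⟨⟨_, x, rfl⟩, rfl⟩
      rw [h1 x]
      exact x.2
    · intro hy
      exact ⟨⟨φ ⟨y, hy⟩, ⟨⟨y, hy⟩, rfl⟩⟩, h1 ⟨y, hy⟩⟩
  have h2 := hj.2 _ hconj
  rw [normalizerIn_eq hic] at h2
  have hfin : Finite (normalizerIn S (Subgroup.zpowers j)) :=
    Finite.of_injective _ (Subgroup.inclusion_injective (inf_le_left : normalizerIn S _ ≤ S))
  have h3 : normalizerIn S (Subgroup.zpowers j) = S :=
    Subgroup.eq_of_le_of_card_ge inf_le_left h2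
  refine ⟨hjS, fun x hx => ?_⟩
  rw [← h3] at hx
  have h4 := (Subgroup.mem_normalizer_iff.1 hx.2 j).1 (Subgroup.mem_zpowers j)
  obtain ⟨k, hk⟩ := h4
  have hk' : j ^ k = x * j * x⁻¹ := hk
  have hjj : j ^ (2 : ℤ) = 1 := by rw [zpow_ofNat, pow_two, hj2]
  rcases Int.even_or_odd' k with ⟨m, rfl | rfl⟩
  · rw [zpow_mul, hjj, one_zpow] at hk'
    have h5 : x * j * x⁻¹ = 1 := hk'.symm
    have h6 : j = 1 := by
      have : x * j = x * 1 := by rw [mul_one]; exact mul_inv_eq_one.1 h5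
      exact mul_left_cancel this
    rw [h6, mul_one, one_mul]
  · rw [zpow_add, zpow_mul, hjj, one_zpow, one_mul, zpow_one] at hk'
    exact (eq_mul_inv_iff_mul_eq.1 hk').symm

/-- a central involution is not fused to a characteristic one -/
theorem not_conj [Finite S] (hS : IsPGroup 2 S) (hF : F.IsSaturated 2) {i z : Ω} (hi : i ∈ S)
    (hic : ∀ x ∈ S, x * i = i * x) (hz : z ∈ S) (hzc : ∀ x ∈ S, x * z = z * x)
    (hchar : ∀ f, Mp F S f → f z = z) (hiz : i ≠ z) : ¬ F.IsConjElt i z := by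
  rintro ⟨φ, hφ, hφz⟩
  have hf : Mp F (Subgroup.zpowers i) (ex φ) := mp_ex hφ
  have hfi : ex φ i = z := by rw [ex_apply _ (Subgroup.mem_zpowers i)]; exact hφz
  obtain ⟨ψ, hψ, h1⟩ := H753.exists_mp_of_receptive hf hfi (receptive_of_central hS hF hz hzc)
  have h2 : Subgroup.zpowers i ⊔ centralizerIn S (Subgroup.zpowers i) = S := by
    refine le_antisymm (sup_le (Subgroup.zpowers_le.2 hi) inf_le_left) ?_
    exact le_trans (H753.centralizer_zpowers_le le_rfl hic) le_sup_right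
  rw [h2] at hψ
  exact hiz (hψ.inj hi hz (h1.trans (hchar ψ hψ).symm))

/-- **central involutions outside the focal subgroup** -/
theorem notMem_focal [Finite Ω] (hS : IsPGroup 2 S) (hF : F.IsSaturated 2) {z c : Ω}
    (hz : z ∈ S) (hz1 : z ≠ 1) (hzz : z * z = 1) (hzc : ∀ x ∈ S, x * z = z * x)
    (hcomm : ∀ x ∈ S, ∀ y ∈ S, x * y = y * x ∨ x * y = z * (y * x))
    (hsq : ∀ x ∈ S, x * x = 1 ∨ x * x = z)
    (hchar : ∀ f, Mp F S f → f z = z) (hc : c ∈ S) (hcc : ∀ x ∈ S, x * c = c * x) (hc2 : c * c = 1)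
    (hc1 : c ≠ 1) (hcz : c ≠ z)
    (hcen : ∀ w ∈ S, (∀ x ∈ S, x * w = w * x) → w = 1 ∨ w = z ∨ w = c ∨ w = c * z) :
    c ∉ F.focalSubgroup := by
  have : Fact (Nat.Prime 2) := ⟨Nat.prime_two⟩
  have hcommz : ∀ x ∈ S, ∀ y ∈ S, x * y * x⁻¹ * y⁻¹ = 1 ∨ x * y * x⁻¹ * y⁻¹ = z := by
    intro x hx y hy
    rcases hcomm x hx y hy with h1 | h1
    · left; rw [h1]; group
    · right; rw [h1]; group
  have hzin : ∀ x : Ω, x = 1 ∨ x = z → x ∈ Subgroup.zpowers z := by
    rintro x (rfl | rfl)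
    · exact one_mem _
    · exact Subgroup.mem_zpowers _
  have hzp : ∀ x ∈ Subgroup.zpowers z, x = 1 ∨ x = z := by
    rintro _ ⟨k, rfl⟩
    have hjj : z ^ (2 : ℤ) = 1 := by rw [zpow_ofNat, pow_two, hzz]
    show z ^ k = 1 ∨ z ^ k = z
    rcases Int.even_or_odd' k with ⟨m, rfl | rfl⟩
    · left; rw [zpow_mul, hjj, one_zpow]
    · right; rw [zpow_add, zpow_mul, hjj, one_zpow, one_mul, zpow_one]
  obtain ⟨T, hzT, hTS, hcT, hT⟩ := DFourGrp.exists_avoid (S := S) (N := Subgroup.zpowers z)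
    (Subgroup.zpowers_le.2 hz) (fun x hx => hzin _ (hsq x hx)) (fun x hx y hy => hzin _ (hcommz x hx y hy))
    hc (fun h => by
      rcases hzp c h with h1 | h1
      · exact hc1 h1
      · exact hcz h1)
  have hzT' : z ∈ T := hzT (Subgroup.mem_zpowers z)
  have hczT : c * z ∉ T := fun h => hcT (by
    have := T.mul_mem h hzT'
    rwa [mul_assoc, hzz, mul_one] at this)
  have hT2 : T.relIndex S = 2 := by
    show (T.subgroupOf S).index = 2
    rw [Subgroup.index_eq_two_iff]
    refine ⟨⟨c, hc⟩, fun b => ?_⟩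
    rw [Subgroup.mem_subgroupOf, Subgroup.mem_subgroupOf]
    show Xor' ((b : Ω) * c ∈ T) ((b : Ω) ∈ T)
    by_cases hb : (b : Ω) ∈ T
    · right
      refine ⟨hb, fun h => hcT ?_⟩
      have := T.mul_mem (T.inv_mem hb) h
      rwa [inv_mul_cancel_left] at this
    · left
      exact ⟨(hT b b.2).resolve_left hb, hb⟩
  have key : ∀ i : Ω, i ∈ S → (∀ x ∈ S, x * i = i * x) → i * i = 1 → i ≠ 1 → i ≠ z →
      i ∉ F.hyperfocalSubgroup 2 := by
    intro i hi hic hii hi1 hiz
    refine S5192.result hS F hF T hTS hT2 i hi (orderOf_eq_prime (by rw [pow_two, hii]) hi1) ?_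
    intro j hij hj hjT
    obtain ⟨hjS, hjc⟩ := central_of_conj hi hic hii hij hj
    rcases hcen j hjS hjc with rfl | rfl | rfl | rfl
    · obtain ⟨φ, hφ, h1⟩ := hij
      have h2 := F.injective_of_mem hφ (h1.trans (map_one φ).symm)
      exact hi1 (congrArg Subtype.val h2)
    · exact not_conj hS hF hi hic hz hzc hchar hiz hij
    · exact hcT hjT
    · exact hczT hjT
  have hc' := key c hc hcc hc2 hc1 hcz
  have hcz' : c * z ∉ F.hyperfocalSubgroup 2 := by
    refine key _ (S.mul_mem hc hz) (fun x hx => ?_) ?_ ?_ ?_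
    · rw [← mul_assoc, hcc x hx, mul_assoc, hzc x hx, mul_assoc]
    · calc c * z * (c * z) = c * (z * c) * z := by group
        _ = c * (c * z) * z := by rw [← hcc z hz]
        _ = (c * c) * (z * z) := by group
        _ = 1 := by rw [hc2, hzz, one_mul]
    · intro h
      apply hcz
      have h1 : c * z * z = 1 * z := by rw [h]
      rwa [mul_assoc, hzz, mul_one, one_mul] at h1
    · intro h
      exact hc1 (mul_right_cancel (h.trans (one_mul z).symm))
  intro hmem
  rw [S5092.result 2 hS F hF] at hmem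
  have hhS : F.hyperfocalSubgroup 2 ≤ S := by
    have h1 : F.hyperfocalSubgroup 2 ≤ F.focalSubgroup := by
      rw [S5092.result 2 hS F hF]; exact le_sup_left
    refine h1.trans ?_
    rw [focalSubgroup, Subgroup.closure_le]
    rintro y ⟨P, φ, x, hφ, rfl⟩
    exact S.mul_mem (S.inv_mem ((F.le_of_mem hφ).1 x.2)) ((F.le_of_mem hφ).2 x)
  let K : Subgroup Ω :=
    { carrier := {y | y ∈ S ∧ (y ∈ F.hyperfocalSubgroup 2 ∨ y * z ∈ F.hyperfocalSubgroup 2)}
      one_mem' := ⟨S.one_mem, Or.inl (one_mem _)⟩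
      mul_mem' := by
        rintro a b ⟨ha, ha'⟩ ⟨hb, hb'⟩
        refine ⟨S.mul_mem ha hb, ?_⟩
        rcases ha' with ha' | ha' <;> rcases hb' with hb' | hb'
        · exact Or.inl (mul_mem ha' hb')
        · right
          rw [mul_assoc]
          exact mul_mem ha' hb'
        · right
          have h1 := mul_mem ha' hb'
          rwa [mul_assoc, ← hzc b hb, ← mul_assoc] at h1
        · left
          have h1 := mul_mem ha' hb'
          have h2 : a * z * (b * z) = a * b := by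
            calc a * z * (b * z) = a * (z * b) * z := by group
              _ = a * (b * z) * z := by rw [← hzc b hb]
              _ = a * b * (z * z) := by group
              _ = a * b := by rw [hzz, mul_one]
          rwa [h2] at h1
      inv_mem' := by
        rintro a ⟨ha, ha'⟩
        refine ⟨S.inv_mem ha, ?_⟩
        rcases ha' with ha' | ha'
        · exact Or.inl (inv_mem ha')
        · right
          have h1 := inv_mem ha'
          have h2 : (a * z)⁻¹ = a⁻¹ * z := by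
            rw [mul_inv_rev, inv_eq_of_mul_eq_one_right hzz]
            exact (hzc _ (S.inv_mem ha)).symm
          rwa [h2] at h1 }
  have hK : F.hyperfocalSubgroup 2 ⊔ ⁅(S : Subgroup Ω), (S : Subgroup Ω)⁆ ≤ K := by
    refine sup_le (fun y hy => ⟨hhS hy, Or.inl hy⟩) ?_
    rw [Subgroup.commutator_le]
    intro x hx y hy
    rw [commutatorElement_def]
    rcases hcommz x hx y hy with h1 | h1
    · rw [h1]; exact K.one_mem
    · rw [h1]; exact ⟨hz, Or.inr (by rw [hzz]; exact one_mem _)⟩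
  rcases (hK hmem).2 with h1 | h1
  · exact hc' h1
  · exact hcz' h1

end Cfsg.Agent.H604.Small.FocAvoid
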