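import Mathlib
import Cfsg.Agent.H604.Small.NilBel
import Cfsg.Agent.H604.Small.FocAvoid
import Cfsg.Agent.H617.OlssonMain
set_option linter.all false

/-!
# 2-blocks with defect group `D₈ × C₂` (helper604, S4542 package F4)

* `rank_le_three_of_co`, `rank_le_three_of_sz`: `l(B) ≤ 3` if the defect group `P` has order 16, `P' = {1, z}`, all
  squares in `{1, z}`, nonabelian, with an elementary abelian subgroup of order 8;
* `rank_le_three_F4`: the same in terms of the commutator subgroup.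
-/

set_option autoImplicit false
set_option linter.unusedSectionVars false

open Cfsg
open scoped ComplexConjugate

namespace Cfsg.Agent.H604.Small.DFour

open Cfsg.Agent.Blocks.Blau Cfsg.Agent.Blocks.Local Cfsg.Agent.Characters
open Cfsg.Agent.H613.SubSys Cfsg.Agent.H613.SubFus Cfsg.Agent.H619.Tame
open Cfsg.Agent.H639 Cfsg.Agent.H649 Cfsg.Agent.H651 Cfsg.Agent.H604.Small.DFourGrp
open Cfsg.Agent.H604.Small.NilBel Cfsg.Agent.H602.Small

universe u

variable {G : Type u} [Group G] [Finite G] {M : Ideal AlgInt}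
  {B : Set (IrrCharacter G)} {a : BrauerPairIdx G}

/-- a sign character of the defect group which is `1` on a subgroup `K` containing the focal subgroup and `-1` at a
central element: `2 l(B) + 2 m ≤ k(B)` for `m` pairwise nonfused nontrivial elements of `K`. -/
theorem two_mul_rank_le (hM : IsPModular 2 M) (hmax : IsMaximalBrauerPair 2 M B a.1 a.2)
    {F : FusionSystem a.1} (hF : IsBlockFusionSystemOn 2 M B a.1 a.2 F) {K : Subgroup G}
    (hKa : K ≤ a.1) (hFK : F.focalSubgroup ≤ K) {c : G} (hc : c ∈ a.1) (hcc : ∀ d ∈ a.1, d * c = c * d)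
    (hcK : c ∉ K) (htwo : ∀ x ∈ a.1, x ∈ K ∨ x * c ∈ K) (m : ℕ) (r : Fin m → G) (hr : ∀ i, r i ∈ K)
    (hr1 : ∀ i, r i ≠ 1) (hinj : ∀ i j, Fus 2 M a (r i) (r j) → i = j) :
    2 * blockRank 2 B + 2 * m ≤ Nat.card B := by
  classical
  have : Fact (Nat.Prime 2) := ⟨Nat.prime_two⟩
  have hsys := isSys_rep hM hmax
  let ε : G → ℤ := fun x => if x ∈ K then 1 else -1
  have e1 : ∀ x, x ∈ K → ε x = 1 := fun x hx => if_pos hx
  have e2 : ∀ x, x ∉ K → ε x = -1 := fun x hx => if_neg hx
  have hfus : ∀ u v : G, u ∈ a.1 → v ∈ a.1 → Fus 2 M a u v → (v ∈ K ↔ u ∈ K) := by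
    intro u v hu hv huv
    obtain ⟨φ, hφ, h1⟩ := (isConjElt_iff hM hmax hF hu hv).2 huv
    have h2 : u⁻¹ * v ∈ K := by
      apply hFK
      apply Subgroup.subset_closure
      exact ⟨_, φ, ⟨u, Subgroup.mem_zpowers u⟩, hφ, by rw [h1]⟩
    constructor
    · intro h3
      have h4 := K.mul_mem h3 (K.inv_mem h2)
      have h5 : v * (u⁻¹ * v)⁻¹ = u := by group
      rwa [h5] at h4
    · intro h3
      have h4 := K.mul_mem h3 h2
      rwa [mul_inv_cancel_left] at h4
  have hKn : ∀ x ∈ a.1, ∀ y ∈ a.1, x * y ∈ K → y * x ∈ K := by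
    intro x hx y hy h
    have h1 := (hfus _ _ (a.1.mul_mem hx hy) (by
      have := a.1.mul_mem (a.1.mul_mem (a.1.inv_mem hx) (a.1.mul_mem hx hy)) (a.1.inv_mem (a.1.inv_mem hx))
      exact this) (Fus.of_mem hM hmax.1.1 (a.1.inv_mem hx) (a.1.mul_mem hx hy))).2 h
    have h2 : x⁻¹ * (x * y) * x⁻¹⁻¹ = y * x := by group
    rwa [h2] at h1
  have h0 := sum_rank_eq_zero_int hM hmax (fun i => rep_mem i) hsys ε
    (fun x _ => by
      by_cases hx : x ∈ K
      · exact Or.inl (e1 x hx)
      · exact Or.inr (e2 x hx))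
    (fun x hx y hy => by
      by_cases hxK : x ∈ K <;> by_cases hyK : y ∈ K
      · rw [e1 x hxK, e1 y hyK, e1 _ (K.mul_mem hxK hyK)]; norm_num
      · rw [e1 x hxK, e2 y hyK, e2 _ (fun h => hyK ((K.mul_mem_cancel_left hxK).1 h))]; norm_num
      · rw [e2 x hxK, e1 y hyK, e2 _ (fun h => hxK ((K.mul_mem_cancel_right hyK).1 h))]; norm_num
      · rw [e2 x hxK, e2 y hyK, e1]
        · norm_num
        · have h1 := (htwo x hx).resolve_left hxK
          have h2 := (htwo y hy).resolve_left hyK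
          -- `x c`, `y c` in `K`
          have h3 : (x * c) * (c⁻¹ * y) ∈ K := by
            refine K.mul_mem h1 ?_
            -- `c⁻¹ y = (y c) c⁻²`
            have h4 : c * c ∈ K := by
              rcases htwo (c) hc with h5 | h5
              · exact absurd h5 hcK
              · exact h5
            have h5 := K.mul_mem (K.inv_mem h4) (hKn y hy c hc h2)
            have h6 : (c * c)⁻¹ * (c * y) = c⁻¹ * y := by group
            rwa [h6] at h5
          have h4 : (x * c) * (c⁻¹ * y) = x * y := by group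
          rwa [h4] at h3)
    (fun u v hu hv huv => by
      by_cases hx : u ∈ K
      · rw [e1 u hx, e1 v ((hfus u v hu hv huv).2 hx)]
      · rw [e2 u hx, e2 v (fun h => hx ((hfus u v hu hv huv).1 h))])
    hc hcc (e2 c hcK)
  have hk := card_eq_rank_add hM hmax
  -- the classes in `K`
  have h3 : Function.Injective fun i : Fin m => mkCl M a (r i) (hKa (hr i)) (hr1 i) :=
    fun i j h => hinj i j ((mkCl_eq_iff _ _ _ _).1 h)
  have h4 : (2 * m : ℤ) ≤ ∑ i : Cl M a, (1 + ε (rep i)) * blockRank 2 (bel 2 M a (rep i)).2 := by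
    have h5 : ∀ i : Cl M a, 0 ≤ (1 + ε (rep i)) * (blockRank 2 (bel 2 M a (rep i)).2 : ℤ) := by
      intro i
      refine mul_nonneg ?_ (by positivity)
      by_cases hx : rep i ∈ K
      · rw [e1 _ hx]; norm_num
      · rw [e2 _ hx]; norm_num
    calc (2 * m : ℤ) = ∑ _i : Fin m, (2 : ℤ) := by simp [mul_comm]
      _ ≤ ∑ i : Fin m, (1 + ε (rep (mkCl M a (r i) (hKa (hr i)) (hr1 i)))) *
            (blockRank 2 (bel 2 M a (rep (mkCl M a (r i) (hKa (hr i)) (hr1 i)))).2 : ℤ) := by
          refine Finset.sum_le_sum fun i _ => ?_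
          have h6 := fus_rep_mk (M := M) (a := a) (hKa (hr i)) (hr1 i)
          have h7 : rep (mkCl M a (r i) (hKa (hr i)) (hr1 i)) ∈ K :=
            (hfus _ _ (rep_mem _) (hKa (hr i)) h6).1 (hr i)
          rw [e1 _ h7]
          have h8 := one_le_blockRank_bel hM hmax (rep_mem (mkCl M a (r i) (hKa (hr i)) (hr1 i)))
          have h9 : (1 : ℤ) ≤ (blockRank 2 (bel 2 M a
            (rep (mkCl M a (r i) (hKa (hr i)) (hr1 i)))).2 : ℤ) := by exact_mod_cast h8
          linarith
      _ = ∑ i ∈ Finset.univ.image fun i : Fin m => mkCl M a (r i) (hKa (hr i)) (hr1 i),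
            (1 + ε (rep i)) * (blockRank 2 (bel 2 M a (rep i)).2 : ℤ) := by
          rw [Finset.sum_image fun i _ j _ h => h3 h]
      _ ≤ _ := Finset.sum_le_sum_of_subset_of_nonneg (Finset.subset_univ _) fun i _ _ => h5 i
  have h5 : ∑ i : Cl M a, (1 + ε (rep i)) * (blockRank 2 (bel 2 M a (rep i)).2 : ℤ) =
      (∑ i : Cl M a, (blockRank 2 (bel 2 M a (rep i)).2 : ℤ)) +
        ∑ i : Cl M a, ε (rep i) * (blockRank 2 (bel 2 M a (rep i)).2 : ℤ) := by
    rw [← Finset.sum_add_distrib]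
    exact Finset.sum_congr rfl fun i _ => by ring
  have hk' : (Nat.card B : ℤ) = blockRank 2 B + ∑ i : Cl M a, (blockRank 2 (bel 2 M a (rep i)).2 : ℤ) := by
    rw [hk]; push_cast; rfl
  have h6 : (2 * blockRank 2 B + 2 * m : ℤ) ≤ Nat.card B := by
    rw [h5] at h4
    linarith
  exact_mod_cast h6

theorem rank_le_three_of_co (hM : IsPModular 2 M) (hmax : IsMaximalBrauerPair 2 M B a.1 a.2)
    {z r e c : G} (h : Co a.1 z r e c) : blockRank 2 B ≤ 3 := by
  have : Fact (Nat.Prime 2) := ⟨Nat.prime_two⟩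
  have := Fintype.ofFinite G
  have := isPrime_of_isPModular hM
  have hD := H644.isDefectGroup_of_isMaximalBrauerPair hM hmax
  have hS : IsPGroup 2 a.1 := Cfsg.Agent.Blocks.Basic.isPGroup_of_isDefectGroup hD
  obtain ⟨F, hF, hsat⟩ := S4677.result 2 M hM B a.1 a.2 hmax
  have hsz := h.sz
  have hcommz : ∀ x ∈ a.1, ∀ y ∈ a.1, x * y * x⁻¹ * y⁻¹ ∈ Subgroup.zpowers z := by
    intro x hx y hy
    rcases hsz.comm x hx y hy with h1 | h1
    · have h2 : x * y * x⁻¹ * y⁻¹ = 1 := by rw [h1]; group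
      rw [h2]; exact one_mem _
    · have h2 : x * y * x⁻¹ * y⁻¹ = z := by rw [h1]; group
      rw [h2]; exact Subgroup.mem_zpowers _
  -- `l(b_z) = 1`
  have hl : blockRank 2 (bel 2 M a z).2 = 1 := by
    refine rank_bel_of_aut hM hmax hsz.mem (fun x hx => hsz.zc hx) hcommz fun f hf _ => ⟨2, fun x hx => ?_⟩
    exact h.iterate_four hf.mem hf.mul hf.inj x hx
  have h1 := card_zero_add_le_bel hM hmax hsz.mem (fun d hd => hsz.zc hd) hl
  rw [hsz.card] at h1
  -- `k₀ ≤ 8`
  have hcz : commutator a.1 ≤ (Subgroup.zpowers z).subgroupOf a.1 := by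
    rw [commutator_def, Subgroup.commutator_le]
    intro x _ y _
    rw [Subgroup.mem_subgroupOf, commutatorElement_def]
    exact hcommz x x.2 y y.2
  have hne : commutator a.1 ≠ ⊥ := by
    intro hb
    apply hsz.na
    intro x hx y hy
    have h2 : (⟨x, hx⟩ : a.1) * ⟨y, hy⟩ * (⟨x, hx⟩ : a.1)⁻¹ * (⟨y, hy⟩ : a.1)⁻¹ ∈ commutator a.1 :=
      Subgroup.commutator_mem_commutator (Subgroup.mem_top _) (Subgroup.mem_top _)
    rw [hb, Subgroup.mem_bot] at h2
    have h3 : x * y * x⁻¹ * y⁻¹ = 1 := congrArg Subtype.val h2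
    calc x * y = x * y * x⁻¹ * y⁻¹ * (y * x) := by group
      _ = y * x := by rw [h3, one_mul]
  have hk0 : Nat.card {χ : IrrCharacter G // χ ∈ B ∧ blockHeight 2 B (χ : G → ℂ) = 0} ≤ 8 := by
    refine (H617.OlssonMain.bound_nonabelian hM hmax.1.2.1 hD ?_ (by rw [hsz.card]; norm_num)).trans ?_
    · intro hZ
      apply hsz.na
      intro x hx y hy
      rw [← hZ] at hy
      exact (H617.FusTwo.mem_Z.1 hy).2 x hx
    · have h2 := Subgroup.card_mul_index (commutator a.1)
      rw [hsz.card] at h2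
      have h3 : 2 ≤ Nat.card (commutator a.1) := by
        have := hsz.fin
        have h4 : Nontrivial (commutator a.1) := (Subgroup.nontrivial_iff_ne_bot _).2 hne
        exact Finite.one_lt_card
      nlinarith
  -- the focal subgroup
  have hchar : ∀ f, H752.Mp F a.1 f → f z = z := by
    intro f hf
    have h1 : f r * f e ≠ f e * f r := by
      intro h1
      rw [← hf.mul h.r_mem h.e_mem, ← hf.mul h.e_mem h.r_mem] at h1
      exact h.re_ne (hf.inj (a.1.mul_mem h.r_mem h.e_mem) (a.1.mul_mem h.e_mem h.r_mem) h1)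
    have h2 := (hsz.comm (f r) (hf.mem h.r_mem) (f e) (hf.mem h.e_mem)).resolve_left h1
    have h3 := congrArg f h.re
    rw [hf.mul h.r_mem h.e_mem, hf.mul hsz.mem (a.1.mul_mem h.e_mem h.r_mem), hf.mul h.e_mem h.r_mem] at h3
    exact mul_right_cancel (h3.symm.trans h2)
  have hcF := FocAvoid.notMem_focal hS hsat hsz.mem hsz.ne hsz.zz (fun x hx => hsz.zc hx) hsz.comm hsz.sq hchar
    h.c_mem h.cc h.c_sq h.c_ne h.c_ne' h.cen
  have hfocS : F.focalSubgroup ≤ a.1 := by
    rw [FusionSystem.focalSubgroup, Subgroup.closure_le]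
    rintro y ⟨P, φ, x, hφ, rfl⟩
    exact a.1.mul_mem (a.1.inv_mem ((F.le_of_mem hφ).1 x.2)) ((F.le_of_mem hφ).2 x)
  have hzF : Subgroup.zpowers z ≤ F.focalSubgroup := by
    rw [Subgroup.zpowers_le, S5092.result 2 hS F hsat]
    refine (le_sup_right : ⁅(a.1 : Subgroup G), a.1⁆ ≤ _) ?_
    have h2 := Subgroup.commutator_mem_commutator h.r_mem h.e_mem
    rw [commutatorElement_def, h.re] at h2
    have h3 : z * (e * r) * r⁻¹ * e⁻¹ = z := by group
    rwa [h3] at h2
  have := hsz.fin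
  obtain ⟨K, hFK, hKS, hcK, hK⟩ := exists_avoid (S := a.1) hfocS (fun x hx => hzF (by
      rcases hsz.sq x hx with h2 | h2
      · rw [h2]; exact one_mem _
      · rw [h2]; exact Subgroup.mem_zpowers _)) (fun x hx y hy => hzF (hcommz x hx y hy)) h.c_mem hcF
  have hzK : z ∈ K := hFK (hzF (Subgroup.mem_zpowers z))
  -- an element of order 4 in `K`
  obtain ⟨s, hs, hss⟩ : ∃ s ∈ K, s * s = z := by
    rcases hK r h.r_mem with h2 | h2
    · exact ⟨r, h2, h.rr⟩
    · refine ⟨r * c, h2, ?_⟩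
      calc r * c * (r * c) = r * (c * r) * c := by group
        _ = r * (r * c) * c := by rw [← h.cc r h.r_mem]
        _ = (r * r) * (c * c) := by group
        _ = z := by rw [h.rr, h.c_sq, mul_one]
  have hs1 : s ≠ 1 := by
    rintro rfl
    rw [mul_one] at hss
    exact hsz.ne hss.symm
  have hnf : ¬ Fus 2 M a s z := by
    intro hf
    have h2 := hf.orderOf_eq
    have h3 : orderOf z = 2 := orderOf_eq_prime (by rw [pow_two, hsz.zz]) hsz.ne
    rw [h3] at h2
    have h4 : s ^ 2 = 1 := by rw [← h2, pow_orderOf_eq_one]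
    rw [pow_two, hss] at h4
    exact hsz.ne h4
  have h2 := two_mul_rank_le hM hmax hF hKS hFK h.c_mem h.cc hcK hK 2 ![z, s]
    (fun i => by fin_cases i <;> [exact hzK; exact hs])
    (fun i => by fin_cases i <;> [exact hsz.ne; exact hs1])
    (fun i j hij => by
      fin_cases i <;> fin_cases j
      · rfl
      · exact absurd hij.symm hnf
      · exact absurd hij hnf
      · rfl)
  omega

theorem rank_le_three_of_sz (hM : IsPModular 2 M) (hmax : IsMaximalBrauerPair 2 M B a.1 a.2)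
    {z : G} (h : Sz a.1 z) {E : Subgroup G} (hE : E ≤ a.1) (hE8 : Nat.card E = 8)
    (hel : ∀ x ∈ E, x * x = 1) : blockRank 2 B ≤ 3 := by
  obtain ⟨r, e, c, hco⟩ := exists_co h hE hE8 hel
  exact rank_le_three_of_co hM hmax hco

end Cfsg.Agent.H604.Small.DFour
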