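import Mathlib
import Cfsg.Agent.H604.Small.DFour
import Cfsg.Agent.H624.FCases
import Cfsg.Agent.H608.F5Pkg
set_option linter.all false

/-!
# Package F4 of S4542 (helper604): defect group of order 16 of type `D₈ × C₂`
-/

set_option autoImplicit false
set_option linter.unusedSectionVars false

open Cfsg

namespace Cfsg.Agent.H604.Small

universe u

theorem pkgF4 {M : Ideal AlgInt} (hM : IsPModular 2 M) : H624.FCases.PkgF4.{u} M := by
  intro G _ _ B D hB hD h16 hZ hsq hQ
  have := Cfsg.Agent.Blocks.Local.isPrime_of_isPModular hM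
  obtain ⟨z, hz1, hcomm, hsq', x, y, hxy⟩ := H608.F5.exists_form h16 hZ hsq
  obtain ⟨Q, hQ8, hQel⟩ := hQ
  obtain ⟨e, he⟩ := H649.exists_pair_of_isDefectGroup hM hB hD
  have hmax := H644.isMaximalBrauerPair_of_isDefectGroup hM he hD
  have hsz : DFourGrp.Sz D (z : G) := by
    refine ⟨h16, z.2, fun h => hz1 (Subtype.ext h), fun a ha => ?_, fun a ha b hb => ?_, fun h => ?_⟩
    · rcases hsq' ⟨a, ha⟩ with h1 | h1
      · exact Or.inl (congrArg Subtype.val h1)
      · exact Or.inr (congrArg Subtype.val h1)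
    · rcases hcomm ⟨a, ha⟩ ⟨b, hb⟩ with h1 | h1
      · exact Or.inl (congrArg Subtype.val h1)
      · exact Or.inr (congrArg Subtype.val h1)
    · exact hxy (Subtype.ext (h x x.2 y y.2))
  refine DFour.rank_le_three_of_sz (a := ⟨D, e⟩) hM hmax (z := (z : G)) hsz (E := Q.map D.subtype) ?_ ?_ ?_
  · rintro _ ⟨q, -, rfl⟩
    exact q.2
  · rw [← hQ8]
    exact Nat.card_congr (Q.equivMapOfInjective D.subtype D.subtype_injective).symm.toEquiv
  · rintro _ ⟨q, hq, rfl⟩
    rw [← map_mul, hQel q hq, map_one]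

end Cfsg.Agent.H604.Small
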